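import Groth.Agent.S6717
import Groth.Agent.H16Derived.QCohD.HomVanish
import Groth.Agent.H16Derived.KFlat.PerfRegular
import Groth.Agent.H16Derived.KFlat.PerfNoeth
import Groth.Agent.H22Alg.KAmple
import Groth.Agent.H16Derived.TorTest.RpushAmp
import Mathlib.CategoryTheory.Triangulated.Generators

/-!
# The diagonal is built from one box product of bundles
-/

set_option autoImplicit false
set_option linter.style.haveILetI false
set_option backward.isDefEq.respectTransparency false

universe u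

open CategoryTheory CategoryTheory.Limits AlgebraicGeometry CategoryTheory.Pretriangulated

attribute [local instance] HasDerivedCategory.standard

noncomputable section

namespace Groth.Agent.H02CA.BoxEnv

variable {P X Y : Scheme.{u}}

/-- The box product. -/
abbrev box (p : P ⟶ X) (q : P ⟶ Y) (E : X.Modules) (G : Y.Modules) : P.Modules :=
  CohB1.tensorMod ((Scheme.Modules.pullback p).obj E) ((Scheme.Modules.pullback q).obj G)

/-- The envelope of one box product. -/
abbrev env (p : P ⟶ X) (q : P ⟶ Y) (E : X.Modules) (G : Y.Modules) : ObjectProperty (DCoh.D P) :=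
  ObjectProperty.triangEnvelope (ObjectProperty.ofObj (fun _ : PUnit.{u + 1} => DCoh.inD P (box p q E G)))

/-- A retract in both factors gives a retract of box products. -/
def boxRetract (p : P ⟶ X) (q : P ⟶ Y) {E E' : X.Modules} {G G' : Y.Modules} (r : Retract E' E) (s : Retract G' G) :
    Retract (box p q E' G') (box p q E G) :=
  let a := r.map (Scheme.Modules.pullback p)
  let b := s.map (Scheme.Modules.pullback q)
  (a.map (DCoh.tensorBi (X := P) |>.flip.obj ((Scheme.Modules.pullback q).obj G'))).trans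
    (b.map ((DCoh.tensorBi (X := P)).obj ((Scheme.Modules.pullback p).obj E)))

theorem env_le {p : P ⟶ X} {q : P ⟶ Y} {E E' : X.Modules} {G G' : Y.Modules} (r : Retract E' E) (s : Retract G' G) :
    env p q E' G' ≤ env p q E G := by
  refine (ObjectProperty.triangEnvelope_le_iff _).2 ?_
  intro Z hZ
  obtain ⟨i⟩ := hZ
  exact ObjectProperty.IsStableUnderRetracts.of_retract
    ((boxRetract p q r s).map (DerivedCategory.singleFunctor P.Modules 0))
    (ObjectProperty.le_triangEnvelope _ _ (ObjectProperty.ofObj_apply _ PUnit.unit))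

def retractLeft {A : X.Modules} {B : X.Modules} : Retract A (A ⊞ B) := ⟨biprod.inl, biprod.fst, biprod.inl_fst⟩

def retractRight {A : X.Modules} {B : X.Modules} : Retract B (A ⊞ B) := ⟨biprod.inr, biprod.snd, biprod.inr_snd⟩

/-- A long syzygy: a map to a shifted coherent module with cone built from one box product. -/
theorem exists_syzygy [IsLocallyNoetherian P] (p : P ⟶ X) (q : P ⟶ Y)
    (hsum : ∀ A B : X.Modules, FlatMod.IsFinLocFree A → FlatMod.IsFinLocFree B → FlatMod.IsFinLocFree (A ⊞ B))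
    (hsum' : ∀ A B : Y.Modules, FlatMod.IsFinLocFree A → FlatMod.IsFinLocFree B → FlatMod.IsFinLocFree (A ⊞ B))
    (hepi : ∀ F : P.Modules, Coh.IsCoh F → ∃ (E : X.Modules) (G : Y.Modules), FlatMod.IsFinLocFree E ∧
      FlatMod.IsFinLocFree G ∧ ∃ π : box p q E G ⟶ F, Epi π) :
    ∀ (n : ℕ) (F : P.Modules), Coh.IsCoh F → ∃ (E : X.Modules) (G : Y.Modules), FlatMod.IsFinLocFree E ∧
      FlatMod.IsFinLocFree G ∧ ∃ B : P.Modules, Coh.IsCoh B ∧
        ∃ δ : DCoh.inD P F ⟶ (DCoh.inD P B)⟦((n + 1 : ℕ) : ℤ)⟧, (env p q E G).trW δ := by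
  intro n
  induction n with
  | zero =>
    intro F hF
    obtain ⟨E, G, hE, hG, π, hπ⟩ := hepi F hF
    have hC : Coh.IsCoh (box p q E G) := H16Derived.KFlat.Stalk.isCoh_of_isFinLocFree
      (H22Alg.KModel.finLocFree_tensorMod (H16Derived.KFlat.Stalk.isFinLocFree_pullback _ hE)
        (H16Derived.KFlat.Stalk.isFinLocFree_pullback _ hG))
    let S : ShortComplex P.Modules := ShortComplex.mk (kernel.ι π) π (kernel.condition π)
    have hS : S.ShortExact := { exact := ShortComplex.exact_kernel π, mono_f := inferInstance, epi_g := hπ }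
    refine ⟨E, G, hE, hG, kernel π, H10Coh.isCoh_kernel π hC hF.1, hS.singleδ, ?_⟩
    exact ObjectProperty.trW.mk' (env p q E G) (rot_of_distTriang _ hS.singleTriangle_distinguished)
      (ObjectProperty.le_triangEnvelope _ _ (ObjectProperty.ofObj_apply _ PUnit.unit))
  | succ n ih =>
    intro F hF
    obtain ⟨E, G, hE, hG, B, hB, δ, hδ⟩ := ih F hF
    obtain ⟨E', G', hE', hG', π, hπ⟩ := hepi B hB
    have hC : Coh.IsCoh (box p q E' G') := H16Derived.KFlat.Stalk.isCoh_of_isFinLocFree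
      (H22Alg.KModel.finLocFree_tensorMod (H16Derived.KFlat.Stalk.isFinLocFree_pullback _ hE')
        (H16Derived.KFlat.Stalk.isFinLocFree_pullback _ hG'))
    let S : ShortComplex P.Modules := ShortComplex.mk (kernel.ι π) π (kernel.condition π)
    have hS : S.ShortExact := { exact := ShortComplex.exact_kernel π, mono_f := inferInstance, epi_g := hπ }
    have h1 : (env p q (E ⊞ E') (G ⊞ G')).trW δ :=
      ObjectProperty.trW_monotone (env_le retractLeft retractLeft) _ hδ
    have h2 : (env p q (E ⊞ E') (G ⊞ G')).trW hS.singleδ :=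
      ObjectProperty.trW_monotone (env_le retractRight retractRight) _
        (ObjectProperty.trW.mk' (env p q E' G') (rot_of_distTriang _ hS.singleTriangle_distinguished)
          (ObjectProperty.le_triangEnvelope _ _ (ObjectProperty.ofObj_apply _ PUnit.unit)))
    let e : ((DCoh.inD P (kernel π))⟦(1 : ℤ)⟧)⟦((n + 1 : ℕ) : ℤ)⟧ ≅ (DCoh.inD P (kernel π))⟦((n + 1 + 1 : ℕ) : ℤ)⟧ :=
      ((shiftFunctorAdd' (DCoh.D P) (1 : ℤ) ((n + 1 : ℕ) : ℤ) ((n + 1 + 1 : ℕ) : ℤ) (by omega)).app _).symm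
    refine ⟨E ⊞ E', G ⊞ G', hsum _ _ hE hE', hsum' _ _ hG hG', kernel π, H10Coh.isCoh_kernel π hC hB.1,
      δ ≫ (hS.singleδ)⟦((n + 1 : ℕ) : ℤ)⟧' ≫ e.hom, ?_⟩
    exact MorphismProperty.comp_mem _ _ _ h1
      (MorphismProperty.comp_mem _ _ _ (h2.shift _) (ObjectProperty.trW_of_isIso _ _))

/-- A perfect coherent module lies in the envelope of one box product. -/
theorem mem_env [IsLocallyNoetherian P] [CompactSpace P] [QuasiSeparatedSpace P] (p : P ⟶ X) (q : P ⟶ Y)
    (hsum : ∀ A B : X.Modules, FlatMod.IsFinLocFree A → FlatMod.IsFinLocFree B → FlatMod.IsFinLocFree (A ⊞ B))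
    (hsum' : ∀ A B : Y.Modules, FlatMod.IsFinLocFree A → FlatMod.IsFinLocFree B → FlatMod.IsFinLocFree (A ⊞ B))
    (hepi : ∀ F : P.Modules, Coh.IsCoh F → ∃ (E : X.Modules) (G : Y.Modules), FlatMod.IsFinLocFree E ∧
      FlatMod.IsFinLocFree G ∧ ∃ π : box p q E G ⟶ F, Epi π)
    (F : P.Modules) (hF : Coh.IsCoh F) (hperf : DCoh.IsPerfect (DCoh.inD P F)) :
    ∃ (E : X.Modules) (G : Y.Modules), FlatMod.IsFinLocFree E ∧ FlatMod.IsFinLocFree G ∧
      env p q E G (DCoh.inD P F) := by
  obtain ⟨c, hc⟩ := H16Derived.QCohD.HomVanish.van_of_isPerfect hperf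
  obtain ⟨E, G, hE, hG, B, hB, δ, hδ⟩ := exists_syzygy p q hsum hsum' hepi (-c).toNat F hF
  refine ⟨E, G, hE, hG, ?_⟩
  have hq : DCoh.IsQCohD (DCoh.inD P B) :=
    H16Derived.TorTest.isQCohD_inD hB.1
  have hle : DerivedCategory.TStructure.t.IsLE ((DCoh.inD P B)⟦(((-c).toNat + 1 : ℕ) : ℤ)⟧)
      (-(((-c).toNat + 1 : ℕ) : ℤ)) := by
    haveI : DerivedCategory.TStructure.t.IsLE (DCoh.inD P B) 0 :=
      inferInstanceAs (((DerivedCategory.singleFunctor P.Modules 0).obj B).IsLE 0)
    exact DerivedCategory.TStructure.t.isLE_shift _ 0 _ _ (by omega)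
  have h0 : δ = 0 := hc _ (H16Derived.QCohD.HomVanish.isQCohD_shift hq _) _ (by omega) hle δ
  obtain ⟨Z, f, g, hT, hZ⟩ := (ObjectProperty.trW_iff' _ δ).1 hδ
  have h0' : (Triangle.mk f δ g).mor₂ = 0 := h0
  obtain ⟨s, hs⟩ := Triangle.coyoneda_exact₂ _ hT (𝟙 (DCoh.inD P F)) (by rw [h0', comp_zero])
  exact ObjectProperty.IsStableUnderRetracts.of_retract ⟨s, f, hs.symm⟩ hZ

end Groth.Agent.H02CA.BoxEnv
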